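import Mathlib

/-! # Direct image along inducing maps; sheaves supported on a closed subset -/

set_option autoImplicit false
set_option linter.style.haveILetI false
set_option backward.isDefEq.respectTransparency false

universe w v u

open CategoryTheory CategoryTheory.Limits TopologicalSpace Opposite

noncomputable section

namespace Groth.Agent.IndSh

variable {Z X : TopCat.{u}} (f : Z ⟶ X)

/-- The largest open whose preimage is inside `U`. -/
def top (U : Opens Z) : Opens X := sSup {W | (Opens.map f).obj W ≤ U}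

lemma le_top {W : Opens X} {U : Opens Z} (h : (Opens.map f).obj W ≤ U) : W ≤ top f U := le_sSup h

lemma top_mono {U U' : Opens Z} (h : U ≤ U') : top f U ≤ top f U' :=
  sSup_le_sSup fun _ hW => le_trans hW h

lemma map_top (hf : Topology.IsInducing f) (U : Opens Z) : (Opens.map f).obj (top f U) = U := by
  apply le_antisymm
  · intro z hz
    obtain ⟨W, hW, hzW⟩ := Opens.mem_sSup.1 hz
    exact hW hzW
  · obtain ⟨V, hV, hVU⟩ := hf.isOpen_iff.1 U.2
    intro z hz
    refine le_top f (W := ⟨V, hV⟩) (fun y hy => ?_) ?_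
    · show y ∈ U.carrier; rw [← hVU]; exact hy
    · show f z ∈ V
      have : z ∈ f ⁻¹' V := by rw [hVU]; exact hz
      exact this

theorem pushforward_full_faithful {A : Type v} [Category.{w} A] (hf : Topology.IsInducing f) :
    (TopCat.Sheaf.pushforward A f).Full ∧ (TopCat.Sheaf.pushforward A f).Faithful := by
  constructor
  · refine ⟨fun {F G} α => ?_⟩
    let c : ∀ U : Opens Z, U ⟶ (Opens.map f).obj (top f U) := fun U => eqToHom (map_top f hf U).symm
    let d : ∀ U : Opens Z, (Opens.map f).obj (top f U) ⟶ U := fun U => eqToHom (map_top f hf U)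
    refine ⟨⟨{ app := fun U => F.1.map (d U.unop).op ≫ α.1.app (op (top f U.unop)) ≫ G.1.map (c U.unop).op
               naturality := fun U V i => ?_ }⟩, ?_⟩
    · have h := top_mono f (leOfHom i.unop)
      have hn := α.1.naturality (homOfLE h).op
      change F.1.map ((Opens.map f).map (homOfLE h)).op ≫ α.1.app (op (top f V.unop)) =
        α.1.app (op (top f U.unop)) ≫ G.1.map ((Opens.map f).map (homOfLE h)).op at hn
      rw [← F.1.map_comp_assoc,
        show i ≫ (d V.unop).op = (d U.unop).op ≫ ((Opens.map f).map (homOfLE h)).op from Subsingleton.elim _ _,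
        F.1.map_comp_assoc, reassoc_of% hn, Category.assoc, Category.assoc, ← G.1.map_comp, ← G.1.map_comp,
        show ((Opens.map f).map (homOfLE h)).op ≫ (c V.unop).op = (c U.unop).op ≫ i from Subsingleton.elim _ _]
    · refine CategoryTheory.Sheaf.hom_ext (NatTrans.ext (funext fun W => ?_))
      show F.1.map (d ((Opens.map f).obj W.unop)).op ≫ α.1.app _ ≫ G.1.map (c ((Opens.map f).obj W.unop)).op = α.1.app W
      have hle : W.unop ≤ top f ((Opens.map f).obj W.unop) := le_top f le_rfl
      have hn := α.1.naturality (homOfLE hle).op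
      change F.1.map ((Opens.map f).map (homOfLE hle)).op ≫ α.1.app W =
        α.1.app _ ≫ G.1.map ((Opens.map f).map (homOfLE hle)).op at hn
      rw [show (c ((Opens.map f).obj W.unop)).op = ((Opens.map f).map (homOfLE hle)).op from Subsingleton.elim _ _,
        ← hn, ← F.1.map_comp_assoc,
        show (d ((Opens.map f).obj W.unop)).op ≫ ((Opens.map f).map (homOfLE hle)).op = 𝟙 _ from Subsingleton.elim _ _,
        F.1.map_id, Category.id_comp]
  · refine ⟨fun {F G φ ψ} h => CategoryTheory.Sheaf.hom_ext (NatTrans.ext (funext fun U => ?_))⟩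
    have h' : φ.1.app (op ((Opens.map f).obj (top f U.unop))) = ψ.1.app (op ((Opens.map f).obj (top f U.unop))) :=
      congrArg (fun t => t.1.app (op (top f U.unop))) h
    rw [← cancel_epi (F.1.map (eqToHom (congrArg op (map_top f hf U.unop)) :
      op ((Opens.map f).obj (top f U.unop)) ⟶ U)), φ.1.naturality, ψ.1.naturality, h']

theorem isIso_counit (hf : Topology.IsInducing f) (F : Z.Sheaf (Type u)) :
    IsIso ((TopCat.Sheaf.pullbackPushforwardAdjunction (Type u) f).counit.app F) := by
  haveI := (pushforward_full_faithful f hf (A := Type u)).1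
  haveI := (pushforward_full_faithful f hf (A := Type u)).2
  infer_instance

variable (hf : Topology.IsClosedEmbedding f)

/-- The complement of the range. -/
def compl : Opens X := ⟨(Set.range f)ᶜ, hf.isClosed_range.isOpen_compl⟩

lemma map_eq_bot {W : Opens X} (h : ∀ x ∈ W, x ∉ Set.range f) : (Opens.map f).obj W = ⊥ := by
  ext z
  exact ⟨fun hz => h (f z) hz ⟨z, rfl⟩, fun hz => hz.elim⟩

include hf in
theorem stalk_pushforward_unique (F : Z.Sheaf (Type u)) (x : X) (hx : x ∉ Set.range f) :
    Nonempty (Unique (((TopCat.Sheaf.pushforward (Type u) f).obj F).presheaf.stalk x)) := by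
  let P := ((TopCat.Sheaf.pushforward (Type u) f).obj F).presheaf
  have hu : ∀ W : Opens X, (∀ y ∈ W, y ∉ Set.range f) → Nonempty (Unique (P.obj (op W))) := fun W hW => by
    have hT := TopCat.Sheaf.isTerminalOfEqEmpty F (map_eq_bot f hW)
    exact ⟨(Types.isTerminalEquivUnique _ hT :)⟩
  obtain ⟨u0⟩ := hu (compl f hf) fun y hy => hy
  refine ⟨⟨⟨P.germ (compl f hf) x hx u0.default⟩, fun a => ?_⟩⟩
  obtain ⟨V, hxV, s, rfl⟩ := TopCat.Presheaf.germ_exist P a
  obtain ⟨u1⟩ := hu (V ⊓ compl f hf) fun y hy => hy.2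
  show P.germ V x hxV s = P.germ (compl f hf) x hx u0.default
  rw [← TopCat.Presheaf.germ_res_apply P (homOfLE (inf_le_left : V ⊓ compl f hf ≤ V)) x ⟨hxV, hx⟩ s,
    ← TopCat.Presheaf.germ_res_apply P (homOfLE (inf_le_right : V ⊓ compl f hf ≤ compl f hf)) x ⟨hxV, hx⟩ u0.default]
  congr 1
  exact (u1.uniq _).trans (u1.uniq _).symm

section Supported

variable {f} (G : X.Sheaf (Type u)) (hG : ∀ x : X, x ∉ Set.range f → Nonempty (Unique (G.presheaf.stalk x)))

include hf hG in
lemma res_bijective {W W' : Opens X} (h : W ≤ W') (hc : ∀ x ∈ W', x ∈ W ∨ x ∉ Set.range f) :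
    Function.Bijective (G.presheaf.map (homOfLE h).op) := by
  constructor
  · intro s t hst
    refine TopCat.Presheaf.section_ext G W' s t fun x hx => ?_
    rcases hc x hx with hxW | hxZ
    · show G.presheaf.germ W' x hx s = G.presheaf.germ W' x hx t
      rw [← TopCat.Presheaf.germ_res_apply G.presheaf (homOfLE h) x hxW s,
        ← TopCat.Presheaf.germ_res_apply G.presheaf (homOfLE h) x hxW t, hst]
    · obtain ⟨u⟩ := hG x hxZ
      exact (u.uniq _).trans (u.uniq _).symm
  · intro s
    have hloc : ∀ x : {x : X // x ∈ W' ∧ x ∉ W}, ∃ (V : Opens X) (_ : x.1 ∈ V),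
        V ≤ W' ⊓ compl f hf ∧ Nonempty (G.presheaf.obj (op V)) := fun x => by
      have hxZ : x.1 ∉ Set.range f := (hc x.1 x.2.1).resolve_left x.2.2
      obtain ⟨u⟩ := hG x.1 hxZ
      obtain ⟨V, hxV, t, -⟩ := TopCat.Presheaf.germ_exist G.presheaf u.default
      exact ⟨V ⊓ (W' ⊓ compl f hf), ⟨hxV, x.2.1, hxZ⟩, inf_le_right,
        ⟨G.presheaf.map (homOfLE inf_le_left).op t⟩⟩
    choose V hxV hV t using hloc
    let U : Option {x : X // x ∈ W' ∧ x ∉ W} → Opens X := fun o => o.elim W V
    let sf : ∀ o, ToType (G.1.obj (op (U o))) := fun o => match o with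
      | none => s
      | some x => (t x).some
    have hcomp : TopCat.Presheaf.IsCompatible G.1 U sf := by
      intro a b
      rcases a with _ | a <;> rcases b with _ | b
      · rfl
      all_goals
        refine TopCat.Presheaf.section_ext G _ _ _ fun x hx => ?_
      · obtain ⟨u⟩ := hG x (hV b hx.2).2
        exact (u.uniq _).trans (u.uniq _).symm
      · obtain ⟨u⟩ := hG x (hV a hx.1).2
        exact (u.uniq _).trans (u.uniq _).symm
      · obtain ⟨u⟩ := hG x (hV a hx.1).2
        exact (u.uniq _).trans (u.uniq _).symm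
    obtain ⟨r, hr, -⟩ := G.existsUnique_gluing' U W'
      (fun o => homOfLE (match o with
        | none => h
        | some x => (hV x).trans inf_le_left))
      (fun x hx => by
        by_cases hxW : x ∈ W
        · exact Opens.mem_iSup.2 ⟨none, hxW⟩
        · exact Opens.mem_iSup.2 ⟨some ⟨x, hx, hxW⟩, hxV ⟨x, hx, hxW⟩⟩) sf hcomp
    exact ⟨r, hr none⟩

/-- `U ↦ G (top U)`. -/
def restrictTop : TopCat.Presheaf (Type u) Z where
  obj U := G.1.obj (op (top f U.unop))
  map i := G.1.map (homOfLE (top_mono f (leOfHom i.unop))).op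
  map_id _ := G.1.map_id _
  map_comp i j := by rw [← G.1.map_comp]; rfl

include hf hG in
lemma top_compare {W : Opens X} (U : Opens Z) (h : U ≤ (Opens.map f).obj W) (x : X) (hx : x ∈ top f U) :
    x ∈ W ∨ x ∉ Set.range f := by
  by_cases hxr : x ∈ Set.range f
  · obtain ⟨z, rfl⟩ := hxr
    exact Or.inl (h ((map_top f hf.toIsInducing U).le hx))
  · exact Or.inr hxr

include hf hG in
lemma restrictTop_isSheaf : (restrictTop (f := f) G).IsSheaf := by
  rw [TopCat.Presheaf.isSheaf_iff_isSheafUniqueGluing_types]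
  intro ι U sf hsf
  let W : Opens X := ⨆ i, top f (U i)
  have hUW : iSup U ≤ (Opens.map f).obj W := iSup_le fun i z hz => by
    have : z ∈ (Opens.map f).obj (top f (U i)) := (map_top f hf.toIsInducing (U i)).ge hz
    exact Opens.mem_iSup.2 ⟨i, this⟩
  have hW : W ≤ top f (iSup U) := iSup_le fun i => top_mono f (le_iSup U i)
  have hb := res_bijective hf G hG hW (fun x hx => top_compare hf G hG _ hUW x hx)
  have hcompat : TopCat.Presheaf.IsCompatible G.1 (fun i => top f (U i)) sf := by
    intro i j
    have hle : top f (U i) ⊓ top f (U j) ≤ top f (U i ⊓ U j) := le_top f fun z hz =>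
      ⟨(map_top f hf.toIsInducing (U i)).le hz.1, (map_top f hf.toIsInducing (U j)).le hz.2⟩
    have e := congrArg (G.1.map (homOfLE hle).op) (hsf i j)
    simp only [restrictTop] at e
    rw [← ConcreteCategory.comp_apply, ← ConcreteCategory.comp_apply, ← G.1.map_comp, ← G.1.map_comp] at e
    exact e
  obtain ⟨s, hs, huniq⟩ := G.existsUnique_gluing (fun i => top f (U i)) sf hcompat
  obtain ⟨r, hr⟩ := hb.2 s
  refine ⟨r, fun i => ?_, fun r' hr' => hb.1 ?_⟩
  · have := hs i
    rw [← hr] at this
    erw [← ConcreteCategory.comp_apply, ← G.1.map_comp] at this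
    exact this
  · rw [hr]
    refine huniq _ fun i => ?_
    erw [← ConcreteCategory.comp_apply, ← G.1.map_comp]
    exact hr' i

include hf hG in
theorem mem_essImage : (TopCat.Sheaf.pushforward (Type u) f).essImage G := by
  let F : Z.Sheaf (Type u) := ⟨restrictTop (f := f) G, restrictTop_isSheaf hf G hG⟩
  have hb : ∀ W : (Opens X)ᵒᵖ, Function.Bijective (G.presheaf.map
      (homOfLE (le_top f (le_refl ((Opens.map f).obj W.unop)))).op) := fun W =>
    res_bijective hf G hG _ (fun x hx => top_compare hf G hG _ le_rfl x hx)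
  let η : ((TopCat.Sheaf.pushforward (Type u) f).obj F).1 ≅ G.1 :=
    NatIso.ofComponents (fun W => (Equiv.ofBijective _ (hb W)).toIso) fun {W W'} i => by
      show G.1.map _ ≫ G.1.map _ = G.1.map _ ≫ G.1.map i
      rw [← G.1.map_comp, ← G.1.map_comp]
      rfl
  exact ⟨F, ⟨(fullyFaithfulSheafToPresheaf _ _).preimageIso η⟩⟩

end Supported

include hf in
theorem essImage_iff (G : X.Sheaf (Type u)) : (TopCat.Sheaf.pushforward (Type u) f).essImage G ↔
    ∀ x : X, x ∉ Set.range f → Nonempty (Unique (G.presheaf.stalk x)) := by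
  refine ⟨fun ⟨F, ⟨e⟩⟩ x hx => ?_, fun hG => mem_essImage hf G hG⟩
  obtain ⟨u⟩ := stalk_pushforward_unique f hf F x hx
  let E := ((TopCat.Presheaf.stalkFunctor (Type u) x).mapIso ((TopCat.Sheaf.forget (Type u) X).mapIso e)).toEquiv
  exact ⟨@Equiv.unique _ _ u E.symm⟩

end Groth.Agent.IndSh
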